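import Mathlib
import Cfsg.Agent.Lib.Suz.Field
import Cfsg.Agent.Lib.AutCl.Galois

/-! `V/W` is cyclic in the rank-one set-up. -/

set_option autoImplicit false
set_option linter.unusedSectionVars false

namespace H26.Suz

open Cfsg MulAction H40 H40.RankOne

theorem exists_sup_closure_of_hom {G C : Type*} [Group G] [Group C] [IsCyclic C] {V W : Subgroup G}
    (hW : W ≤ V) (φ : V →* C) (h : ∀ v : V, φ v = 1 → (v : G) ∈ W) :
    ∃ v ∈ V, W ⊔ Subgroup.closure {v} = V := by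
  haveI : IsCyclic φ.range := Subgroup.isCyclic _
  obtain ⟨g, hg⟩ := IsCyclic.exists_generator (α := φ.range)
  obtain ⟨v, hv⟩ := g.2
  have h0 : Subgroup.closure {(v : G)} ≤ V := by
    rw [Subgroup.closure_le, Set.singleton_subset_iff]
    exact v.2
  refine ⟨v, v.2, le_antisymm (sup_le hW h0) fun x hx => ?_⟩
  obtain ⟨n, hn⟩ := Subgroup.mem_zpowers_iff.1 (hg (φ.rangeRestrict ⟨x, hx⟩))
  have h2 : φ (⟨x, hx⟩ * (v ^ n)⁻¹) = 1 := by
    rw [map_mul, map_inv, map_zpow, mul_inv_eq_one, hv, ← Subgroup.coe_zpow, hn,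
      MonoidHom.coe_rangeRestrict]
  have h3 : x = (x * ((v : G) ^ n)⁻¹) * (v : G) ^ n := by group
  rw [h3]
  have h4 : x * ((v : G) ^ n)⁻¹ ∈ W := by simpa using h _ h2
  have h5 : (v : G) ∈ Subgroup.closure {(v : G)} := Subgroup.subset_closure (Set.mem_singleton _)
  exact Subgroup.mul_mem_sup h4 (Subgroup.zpow_mem _ h5 n)

variable {G Ω : Type*} [Group G] [Finite G] [MulAction G Ω] {a : Ω} {t : G} {Q : Subgroup G}

/-- `V` acts on the coordinate field, with kernel `W`. -/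
theorem Coord.exists_hom_V (hS : IsRankOneSetup G Ω a t Q) {s r : G} (hs : s ∈ II G a) (hr : r ∈ Q)
    (e : t * s * t = r⁻¹ * t * r) {F : Type} [Field F] (c : Coord G a t s F) :
    ∃ φ : H13.Suz.VV G a t →* RingAut F,
      (∀ (v : H13.Suz.VV G a t) (z : F), (v : G) * c.u (Multiplicative.ofAdd z) * (v : G)⁻¹ =
        c.u (Multiplicative.ofAdd (φ v z))) ∧
      ∀ v, φ v = 1 → (v : G) ∈ H13.Suz.WW G a t := by
  have h1 : ∀ v : H13.Suz.VV G a t, ∃ γ : F ≃+* F,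
      ∀ z, (v : G) * c.u (Multiplicative.ofAdd z) * (v : G)⁻¹ =
      c.u (Multiplicative.ofAdd (γ z)) := fun v => by
    obtain ⟨h, h'⟩ := H13.Suz.mem_VV.1 v.2
    obtain ⟨γ, h, -⟩ := c.aut v h (comm_s_of_comm_t hS hs hr e h h').1.symm
    exact ⟨γ, h⟩
  choose γ hγ using h1
  refine ⟨MonoidHom.mk' γ (fun v w => RingEquiv.ext fun z => c.u_inj (a₁ :=
    Multiplicative.ofAdd _) (a₂ := Multiplicative.ofAdd _) (by
      show c.u (Multiplicative.ofAdd (γ (v * w) z)) = c.u (Multiplicative.ofAdd (γ v (γ w z)))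
      rw [← hγ, ← hγ, ← hγ]
      simp [mul_assoc])), hγ, fun v hv => ?_⟩
  rw [H13.Suz.WW, W_eq hS]
  refine ⟨v.2.1, Subgroup.mem_centralizer_iff.2 fun y hy => ?_⟩
  obtain ⟨z, rfl⟩ := (c.u_range y).2 (Or.inr hy)
  have h4 := hγ v z.toAdd
  rw [show γ v = 1 from hv] at h4
  exact (mul_inv_eq_iff_eq_mul.1 h4).symm

theorem exists_W_sup (hS : IsRankOneSetup G Ω a t Q) :
    ∃ v ∈ H13.Suz.VV G a t, H13.Suz.WW G a t ⊔ Subgroup.closure {v} = H13.Suz.VV G a t := by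
  obtain ⟨s, hs, r, hr, e⟩ := exists_structure hS
  obtain ⟨F, _, _, _, -, ⟨c⟩⟩ := exists_coord hS hs
  obtain ⟨φ, -, h⟩ := c.exists_hom_V hS hs hr e
  exact exists_sup_closure_of_hom inf_le_left φ h

end H26.Suz
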